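import Cfsg.Agent.MK.L.Gen
import Cfsg.Agent.MK.S.Congr
import Cfsg.Agent.H504.PslOut
import Cfsg.Agent.S2086

/-!
# MK-L: the groups `L₂(q)`, `q` odd, `q ≢ 1 (mod 8)` (helper81)

* `k0_sub`, `fN_two` : the counts in `PSL₂(q)` and `PGL₂(q)` (all odd `q`);
* `sm_l2`, `gd_l2`.
-/

set_option autoImplicit false

namespace Cfsg.Agent.MK.L

open Cfsg Subgroup Cfsg.Agent.ODD Cfsg.Agent.MK.T Cfsg.Agent.GH.L2Aut

section

variable {F : Type} [Field F] [Finite F] {L : Type} [Group L] (R : GH.L2Aut.Rep F L)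

/-- an element of `PGL` which centralizes a Sylow subgroup -/
theorem sq_of_fix (Q : Sylow 2 L) {β : MulAut L} (hβ : β ∈ R.PGL) (h : ∀ s ∈ (Q : Subgroup L), β s = s) :
    β ^ 2 ^ 1 = 1 := by
  obtain ⟨a, b, ha, hb, hab⟩ := R.exists_four_mem Q
  rw [pow_one, pow_two]
  rcases R.fix_four hab hβ (h a ha) (h b hb) with rfl | rfl | rfl | rfl
  · exact mul_one 1
  · rw [← map_mul, hab.aa, map_one]
  · rw [← map_mul, hab.bb, map_one]
  · rw [← map_mul, hab.right.bb, map_one]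

include R in
/-- the subgroups which contain the normaliser of a Sylow subgroup -/
theorem k0_sub (Q : Sylow 2 L) {K : Subgroup L} (hK : normalizer ((Q : Subgroup L) : Set L) ≤ K) : k0 K = 4 := by
  have := R.finite
  have := two_prime
  have hQ : (Q : Subgroup L) ≤ K := le_normalizer.trans hK
  obtain ⟨d, r, h⟩ := R.exists_dih Q
  have h1 : Dih (Q.subtype hQ : Subgroup K) ⟨d, hQ h.d_mem⟩ ⟨r, hQ h.r_mem⟩ :=
    Dih.comap K.subtype K.subtype_injective (by
      rw [Sylow.coe_subtype, subgroupOf_map_subtype, inf_eq_left.2 hQ]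
      exact h)
  have hC : IsPGroup 2 (centralizer ((Q.subtype hQ : Subgroup K) : Set K)) := by
    rintro ⟨x, hx⟩
    refine ⟨1, Subtype.ext (Subtype.ext (R.conj_injective ?_))⟩
    have h2 := sq_of_fix R Q (R.conj_mem_PGL x) fun s hs => by
      have h3 := congrArg Subtype.val (mem_centralizer_iff.1 hx ⟨s, hQ hs⟩ hs)
      rw [MulAut.conj_apply, mul_inv_eq_iff_eq_mul]
      exact h3.symm
    rw [← map_pow] at h2
    exact h2.trans (map_one _).symm
  by_cases hd : d * d = 1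
  · have h4 : Four d r := ⟨hd, h.rr, h.d1, h.r1, fun e => h.r_not (e ▸ mem_zpowers d), by
      rw [← mul_inv_eq_iff_eq_mul.1 (h.rd.trans (inv_eq_of_mul_eq_one_left hd))]⟩
    have ho : orderOf d = 2 := orderOf_eq_prime (by rw [pow_two, hd]) h.d1
    have h5 : ∀ x, x ∈ zpowers d → x = 1 ∨ x = d := fun x hx => by
      obtain ⟨k, rfl⟩ := (mem_powers_iff_mem_zpowers.2 hx : ∃ k : ℕ, d ^ k = x)
      change d ^ k = 1 ∨ d ^ k = d
      rw [← pow_mod_orderOf, ho]
      rcases Nat.mod_two_eq_zero_or_one k with e | e <;> rw [e]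
      · exact Or.inl (pow_zero d)
      · exact Or.inr (pow_one d)
    have h6 : ∀ x ∈ (Q : Subgroup L), x = 1 ∨ x = d ∨ x = r ∨ x = d * r := fun x hx => by
      rcases h.cov x hx with e | ⟨k, rfl⟩
      · exact (h5 x e).imp_right Or.inl
      · rcases h5 _ (zpow_mem (mem_zpowers d) k) with e | e <;> rw [e]
        · exact Or.inr (Or.inr (Or.inl (one_mul r)))
        · exact Or.inr (Or.inr (Or.inr rfl))
    obtain ⟨-, y, -, -, -, -, -, -, -, y1, y2, -⟩ := R.exists_frame h4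
    have y3 : y * (d * r) * y⁻¹ = d := by
      rw [show y * (d * r) * y⁻¹ = y * d * y⁻¹ * (y * r * y⁻¹) by group, y1, y2, h4.comm, ← mul_assoc, h.rr, one_mul]
    have hy : y ∈ K := hK (mem_normalizer_fintype fun x hx => by
      rcases h6 x hx with rfl | rfl | rfl | rfl
      · simp
      · rw [y1]
        exact h.r_mem
      · rw [y2]
        exact mul_mem h.d_mem h.r_mem
      · rw [y3]
        exact h.d_mem)
    have h7 : ∀ s : K, orderOf s = 2 → IsConj s ⟨d, hQ h.d_mem⟩ := fun s hs => by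
      obtain ⟨P, hP⟩ := (IsPGroup.of_card (p := 2) (n := 1) (G := zpowers s)
        (by rw [Nat.card_zpowers, hs, pow_one])).exists_le_sylow
      obtain ⟨g, hg⟩ := MulAction.exists_smul_eq K P (Q.subtype hQ)
      refine (isConj_iff.2 ⟨g, rfl⟩).trans ?_
      have h8 : ((g * s * g⁻¹ : K) : L) ∈ (Q : Subgroup L) :=
        (conj_mem_syl hg (hP (mem_zpowers s)) : g * s * g⁻¹ ∈ Q.subtype hQ)
      rcases h6 _ h8 with e | e | e | e
      · rw [OneMemClass.coe_eq_one, mul_inv_eq_one, mul_eq_left] at e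
        rw [e, orderOf_one] at hs
        omega
      · exact (Subtype.ext e : g * s * g⁻¹ = ⟨d, hQ h.d_mem⟩) ▸ IsConj.refl _
      · refine IsConj.symm (isConj_iff.2 ⟨⟨y, hy⟩, Subtype.ext (y1.trans e.symm)⟩)
      · refine isConj_iff.2 ⟨⟨y, hy⟩, Subtype.ext ?_⟩
        change y * ((g * s * g⁻¹ : K) : L) * y⁻¹ = d
        rw [e, y3]
    refine k0_klein (Q.subtype hQ) ⟨?_, ?_⟩ (fun s t hs ht => (h7 s hs).trans (h7 t ht).symm)
      (Q.subtype hQ).isPGroup' hC
    · rw [h1.card, orderOf_mk, ho]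
    · have : Nontrivial (Q.subtype hQ : Subgroup K) := ⟨⟨⟨_, h1.d_mem⟩, 1, fun e => h1.d1 (congrArg Subtype.val e)⟩⟩
      refine (Monoid.exponent_eq_prime_iff Nat.prime_two).2 fun x hx => orderOf_eq_prime ?_ hx
      refine Subtype.ext (Subtype.ext ?_)
      change (x : L) ^ 2 = 1
      rw [pow_two]
      rcases h6 (x : L) x.2 with e | e | e | e <;> rw [e]
      · exact mul_one 1
      · exact hd
      · exact h.rr
      · exact h4.right.bb
  · exact k0_dih _ h1 (fun e => hd (congrArg Subtype.val e)) (Q.subtype hQ).isPGroup' hC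

/-- the diagonal automorphisms -/
theorem fN_two (Q : Sylow 2 L) {M : Subgroup (MulAut L)} (hM : M ≤ R.PGL)
    (hQ : (Q : Subgroup L).map MulAut.conj ≤ M) {δ : MulAut L} (hδ : δ ∈ M)
    (hn : δ ∉ (MulAut.conj : L →* MulAut L).range) : fN (In M) δ = 2 := by
  have := R.finite
  have := R.finite_aut
  have := two_prime
  have hi : (inH M).range.index = 2 := by
    rw [index_eq_two_iff]
    refine ⟨⟨δ, hδ⟩, fun b => ?_⟩
    rw [mem_range_inH, mem_range_inH, coe_mul]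
    by_cases hb : (b : MulAut L) ∈ (MulAut.conj : L →* MulAut L).range
    · exact Or.inr ⟨hb, fun e => hn ((mul_mem_cancel_left hb).1 e)⟩
    · exact Or.inl ⟨R.mul_mem_inn (hM b.2) hb (hM hδ) hn, hb⟩
  have h1 := k0_index_two (inH M) (inH_inj R.center_eq_bot) hi (a := ⟨δ, hδ⟩) (α := rs M ⟨δ, hδ⟩)
    (fun h => hn ((mem_range_inH _).1 h)) fun y => Subtype.ext (conj_map δ y)
  have hU : IsPGroup 2 (((Q : Subgroup L).map MulAut.conj).subgroupOf M) := (Q.isPGroup'.map _).comap_subtype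
  obtain ⟨P, hP⟩ := hU.exists_le_sylow
  obtain ⟨c, d, r, h2, -, h3, h4⟩ := R.dih_plus Q (P := (P : Subgroup M).map M.subtype) (P.isPGroup'.map _)
    ((map_subtype_le _).trans hM) (fun x hx => ⟨⟨x, hQ hx⟩, hP hx, rfl⟩) fun e =>
      P.not_dvd_index (hi.symm.dvd.trans (index_dvd_of_le fun α hα => (mem_range_inH _).2 (e ⟨α, hα, rfl⟩)))
  obtain ⟨c, -, rfl⟩ := h4.d_mem
  obtain ⟨s, -, hs⟩ := h4.r_mem
  rw [← hs] at h4
  have h5 : k0 M = 4 := by
    refine k0_dih P (h4.comap _ M.subtype_injective) (fun e => h3.d1 (R.conj_injective ?_)) hU ?_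
    · rw [← h2, ← map_mul, e, map_one, map_one]
    · rintro ⟨x, hx⟩
      refine ⟨1, Subtype.ext (Subtype.ext (sq_of_fix R Q (hM x.2) fun s hs => R.conj_injective ?_))⟩
      have h6 := congrArg Subtype.val (mem_centralizer_iff.1 hx ⟨_, hQ ⟨s, hs, rfl⟩⟩ ⟨s, hs, rfl⟩)
      rw [conj_map, mul_inv_eq_iff_eq_mul]
      exact h6.symm
  rw [fN_eq_f0 (β := rs M ⟨δ, hδ⟩) fun _ => rfl]
  omega

include R in
theorem sm_rep (hc : IsCyclic (Out L)) : Sm L := by
  have := R.finite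
  have := two_prime
  let Q : Sylow 2 L := default
  obtain ⟨ε, hε⟩ := FiniteField.exists_nonsquare (F := F) fun e => R.two (by
    have h1 := ringChar.Nat.cast_ringChar (R := F)
    rwa [e] at h1)
  have h0 : ε ≠ 0 := fun e => hε (e ▸ IsSquare.zero)
  let β := R.gl (Matrix.GeneralLinearGroup.mkOfDetNeZero !![ε, 0; 0, 1] (by simpa using h0))
  have hβ : β ∉ (MulAut.conj : L →* MulAut L).range := fun e => hε (by simpa using R.gl_mem_inn.1 e)
  obtain ⟨y, hy⟩ := MulAction.exists_smul_eq L (Q.mapSurjective (f := β.toMonoidHom) β.surjective) Q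
  have h1 : MulAut.conj y * β ∈ R.PGL := mul_mem (R.conj_mem_PGL y) (R.gl_mem_PGL _)
  have h2 : MulAut.conj y * β ∉ (MulAut.conj : L →* MulAut L).range := fun e =>
    hβ ((Subgroup.mul_mem_cancel_left _ (MonoidHom.mem_range.2 ⟨y, rfl⟩)).1 e)
  have h3 : ∀ x, (MulAut.conj y * β) x ∈ (Q : Subgroup L) ↔ x ∈ (Q : Subgroup L) :=
    stab_of_le fun x hx => conj_mem_syl hy (mem_map_of_mem β.toMonoidHom hx)
  have h4 : In (Nm R.PGL Q) = normalizer ((Q : Subgroup L) : Set L) := by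
    ext x
    exact ⟨fun h => mem_normalizer_iff.2 fun y => (h.2 y).symm,
      fun h => ⟨R.conj_mem_PGL x, fun y => (mem_normalizer_iff.1 h y).symm⟩⟩
  refine sm_of_four R.center_eq_bot hc Q ((k0_congr topEquiv).symm.trans (k0_sub R Q le_top)) (k0_sub R Q le_rfl)
    h3 ?_ ?_
  · rw [← fN_top, ← (eq_top_iff' (In R.PGL)).2 fun x => R.conj_mem_PGL x]
    exact fN_two R Q le_rfl (R.map_conj_le Q) h1 h2
  · rw [← h4]
    refine fN_two R Q (M := Nm R.PGL Q) (fun _ h => h.1) ?_ ⟨h1, h3⟩ h2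
    rintro _ ⟨x, hx, rfl⟩
    exact (h4.ge (le_normalizer hx) :)

end

variable {F : Type} [Field F] [Fintype F]

/-- **`L₂(q)`, `q` odd, `q ≢ 1 (mod 8)`** -/
theorem sm_l2 (ho : Odd (Fintype.card F)) (h8 : Fintype.card F % 8 ≠ 1) (h4 : 4 ≤ Fintype.card F) :
    Sm (Matrix.ProjectiveSpecialLinearGroup (Fin 2) F) := by
  obtain ⟨p, hp⟩ := CharP.exists F
  obtain ⟨f, h1, h2⟩ := FiniteField.card F p
  have := Fact.mk h1
  have h3 : Odd p := (Nat.odd_pow_iff f.ne_zero).1 (h2 ▸ ho)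
  refine sm_rep (GH.L2Aut.Rep.ofEquiv (two_ne_zero_of_odd ho) (MulEquiv.refl _))
    (H504.PslOut.isCyclic_out h3 (Nat.not_even_iff_odd.1 fun ⟨k, hk⟩ => h8 ?_) h2 (h2 ▸ h4))
  have h5 : p ^ 2 % 8 = 1 := by
    have h6 : p % 8 = 1 ∨ p % 8 = 3 ∨ p % 8 = 5 ∨ p % 8 = 7 := by
      have := Nat.odd_iff.1 h3
      omega
    rw [Nat.pow_mod]
    rcases h6 with e | e | e | e <;> rw [e]
  rw [h2, hk, ← two_mul, pow_mul, Nat.pow_mod, h5, one_pow]
  rfl

/-- **the row of `L₂(q)`, `q` odd, `q ≢ 1 (mod 8)`** -/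
theorem gd_l2 (h : Steps) {K : Fam} {X : Type} [Group X] [Finite X] (c : Cov K X) {Γ : Subgroup (MulAut X)}
    (s : Sit X Γ) (ho : Odd (Fintype.card F)) (h8 : Fintype.card F % 8 ≠ 1) (h4 : 4 ≤ Fintype.card F)
    (e : Nonempty (X ⧸ center X ≃* Matrix.ProjectiveSpecialLinearGroup (Fin 2) F)) : Gd X Γ := by
  refine S.gd_of_mb h.sm c s e (k := 1) ((Cv.MB.of_cyc (S2086.result rfl 2 le_rfl (fun _ => h4) ?_)).mono
    (Nat.gcd_dvd_left _ _)) fun _ => sm_l2 ho h8 h4
  have := Nat.odd_iff.1 ho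
  simp only [Set.mem_insert_iff, Set.mem_singleton_iff, Prod.mk.injEq]
  omega

end Cfsg.Agent.MK.L
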