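import Cfsg.Agent.MK.L.Gen
import Cfsg.Agent.MK.S.Congr
import Cfsg.Agent.H191.EB515.OddRee
import Cfsg.Agent.H608.KKL.C1
import Cfsg.Agent.H70.S3530.ReeExt
import Cfsg.Agent.SmallSimple.S1000.FrameAut
import Cfsg.Agent.S2113
import Cfsg.Agent.S2127

/-!
# MK-L: the Ree groups (helper81)

The odd characters are the eight rows of the pattern `Eight`; automorphisms of odd order fix them.  On the normaliser
`2³:7:3` of a Sylow `2`-subgroup all automorphisms act as inner ones.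
-/

set_option autoImplicit false

namespace Cfsg.Agent.MK.L

open Cfsg Subgroup Cfsg.Agent.ODD Cfsg.Agent.ODD.Red Cfsg.Agent.MK.T Cfsg.Agent.Characters.Core
open Cfsg.Agent.Ree Cfsg.Agent.Ree.Interface Cfsg.Agent.Ree.Rows Cfsg.Agent.Ree.DegVal Cfsg.Agent.Ree.NumPattern
  Cfsg.Agent.Ree.NumEight Cfsg.Agent.H191.EB515

section num

variable {ι : Type}

theorem fix_of_per {π : ι → ι} {n : ℕ} (hn : Odd n) {x : ι} (h : π^[n] x = x) (h4 : π (π (π (π x))) = x) : π x = x := by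
  have h1 : Function.IsPeriodicPt π (Nat.gcd n (2 ^ 2)) x := Function.IsPeriodicPt.gcd h h4
  rwa [(Nat.coprime_two_right.2 hn).pow_right 2] at h1

theorem two_fix {π : ι → ι} (hi : Function.Injective π) {n : ℕ} (hn : Odd n) {a b : ι} (h : π^[n] a = a)
    (ha : π a = a ∨ π a = b) (hb : π b = a ∨ π b = b) : π a = a := by
  rcases ha with ha | ha
  · exact ha
  · rcases hb with hb | hb
    · exact fix_of_per hn h (by rw [ha, hb, ha, hb])
    · rw [ha, hi (ha.trans hb.symm)]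

theorem fin_comm : ∀ P : Fin 4 → Fin 4, Function.Injective P → ∀ S : Fin 4 → Fin 4, Function.Injective S →
    (∀ i, S i ≠ i) → (∀ i, P (S i) = S (P i)) → ∀ i, P (P (P (P i))) = i := by
  decide +kernel

/-- the three classes of rows -/
def cls : Fin 8 → Fin 3 := ![0, 0, 1, 1, 1, 1, 2, 2]

/-- the middle class -/
def em : Fin 4 → Fin 8 := ![2, 3, 4, 5]

variable [Fintype ι] {Q : ℤ} {g : ℕ} {deg val : ι → ℤ} {r : Fin 3 → ι → ℤ} {one : ι} {σ : ι ≃ ι}
  {e : Fin 8 → ι} {δ : Fin 8 → ℤ}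

theorem cls_eq (hQ8 : Q % 8 = 5) (hQ5 : 5 < |Q|) (hb : NumBase Q g deg val r one σ) (h : Eight r one e δ) {i j : Fin 8}
    (hv : val (e i) = val (e j)) : cls i = cls j := by
  obtain ⟨c, hc⟩ : ∃ c, 2 * c = -(Q + 1) := ⟨-(Q + 1) / 2, by omega⟩
  have h1 : ∀ k, |val (e k)| = (![1, |c|, |Q|] : Fin 3 → ℤ) (cls k) := fun k => by
    rw [eight_vals hb h hc k, abs_mul, show |δ k| = 1 by rcases h.δ_sq k with e | e <;> simp [e], one_mul]
    fin_cases k <;> rfl
  have h2 : 1 ≠ |c| ∧ |c| ≠ |Q| ∧ 1 ≠ |Q| := by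
    rcases abs_cases c with a | a <;> rcases abs_cases Q with b | b <;> omega
  have h3 := h1 i
  rw [hv, h1 j] at h3
  generalize cls i = a at h3 ⊢
  generalize cls j = b at h3 ⊢
  fin_cases a <;> fin_cases b <;>
    first | rfl | exact absurd h3 h2.1 | exact absurd h3 h2.2.1 | exact absurd h3 h2.2.2 | exact absurd h3 h2.1.symm |
      exact absurd h3 h2.2.1.symm | exact absurd h3 h2.2.2.symm

theorem fix_of_eight (hQ8 : Q % 8 = 5) (hQ5 : 5 < |Q|) (hb : NumBase Q g deg val r one σ) (h : Eight r one e δ)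
    {π : ι → ι} (hi : Function.Injective π) (hπ : ∀ j, ∃ i, e i = π (e j)) (hv : ∀ χ, val (π χ) = val χ)
    (hs : ∀ χ, π (σ χ) = σ (π χ)) {n : ℕ} (hn : Odd n) (hp : ∀ χ, π^[n] χ = χ) (j : Fin 8) : π (e j) = e j := by
  have h1 : ∀ j, ∃ i, cls i = cls j ∧ π (e j) = e i := fun j => by
    obtain ⟨i, h1⟩ := hπ j
    exact ⟨i, cls_eq hQ8 hQ5 hb h (by rw [h1, hv]), h1.symm⟩
  have two : ∀ a b : Fin 8, cls b = cls a → (∀ i, cls i = cls a → i = a ∨ i = b) → π (e a) = e a := by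
    intro a b h2 h3
    obtain ⟨i, h4, h5⟩ := h1 a
    obtain ⟨k, h6, h7⟩ := h1 b
    refine two_fix hi hn (b := e b) (hp _) ?_ ?_
    · rw [h5]
      exact (h3 i h4).imp (congrArg e) (congrArg e)
    · rw [h7]
      exact (h3 k (h6.trans h2)).imp (congrArg e) (congrArg e)
  have h2 : ∀ (a : Fin 4) (i : Fin 8), cls i = cls (em a) → ∃ b, i = em b := by decide
  have h3 : ∀ a, ∃ b, π (e (em a)) = e (em b) := fun a => by
    obtain ⟨i, h3, h4⟩ := h1 (em a)
    obtain ⟨b, rfl⟩ := h2 a i h3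
    exact ⟨b, h4⟩
  have h4 : ∀ a, ∃ b, σ (e (em a)) = e (em b) := fun a => by
    obtain ⟨k, hk⟩ := (h.mem _).2 ⟨em a, rfl⟩
    obtain ⟨i, h4⟩ := (h.mem (σ (e (em a)))).1 (by
      fin_cases k
      · exact ⟨1, by rwa [hb.gal1]⟩
      · exact ⟨0, by rwa [hb.gal0]⟩
      · exact ⟨2, by rwa [hb.gal2]⟩)
    obtain ⟨b, rfl⟩ := h2 a i (cls_eq hQ8 hQ5 hb h (by rw [h4, hb.gal_val]))
    exact ⟨b, h4.symm⟩
  choose P hP using h3
  choose S hS using h4
  have he : Function.Injective fun a => e (em a) := h.inj.comp (by decide : Function.Injective em)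
  have mid : ∀ a, π (e (em a)) = e (em a) := fun a => by
    refine fix_of_per hn (hp _) ?_
    rw [hP, hP, hP, hP, fin_comm P (fun a b hab => he (hi ?_)) S (fun a b hab => he (σ.injective ?_)) (fun a ha => ?_)
      fun a => he ?_]
    · rw [hP, hP, hab]
    · rw [hS, hS, hab]
    · have h5 := hb.gal0 (e (em a))
      rw [hS, ha, h.r0, h.r1] at h5
      rcases h.δ_sq (em a) with h6 | h6 <;> rw [h6] at h5 <;> revert h5 <;> fin_cases a <;> decide
    · change e (em (P (S a))) = e (em (S (P a)))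
      rw [← hP, ← hS, ← hS, ← hP, hs]
  fin_cases j
  · exact two 0 1 rfl (by decide)
  · exact two 1 0 rfl (by decide)
  · exact mid 0
  · exact mid 1
  · exact mid 2
  · exact mid 3
  · exact two 6 7 rfl (by decide)
  · exact two 7 6 rfl (by decide)

end num

section good

variable {G : Type} [Group G] [Finite G] {F : Type} [Field F] [Fintype F] {t : G} {L V Y : Subgroup G} {m : ℕ} {ε : ℤ}

/-- the numerical data of `H191.EB515.exists_num`, with the Galois automorphism -/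
theorem exists_num' [Fintype (IrrCharacter G)] (h : Good F t L V Y m ε) {M : Ideal AlgInt} (hM : IsPModular 2 M) :
    ∃ (τ : Fin 4 → L → ℂ) (one : IrrCharacter G) (s : ℂ ≃+* ℂ), Tau M τ ∧
      NumBase (ε * Fintype.card F) (Nat.card G) deg (val t) (r t L τ) one (GalPerm.perm s) ∧
      ∀ ℓ : ℕ, ℓ.Prime → ℓ ∣ m → ∃ a b, NumTI (ε * Fintype.card F) (Nat.card G) deg (val t) (r t L τ) one
        (GalPerm.perm s) (ℓ ^ m.factorization ℓ) a b := by
  classical
  have := Fintype.ofFinite V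
  have := Fintype.ofFinite Y
  obtain ⟨τ, hτ, h1, h2, h3, hy1, hgal⟩ :=
    PSLTauMain.exists_tau h.iso m ε h.eps h.odd_m h.one_lt_m h.card_F M hM
  obtain ⟨p, hpF⟩ := CharP.exists F
  obtain ⟨n, hp, hn⟩ := FiniteField.card F p
  have : Fact p.Prime := ⟨hp⟩
  have hm0 : m ≠ 0 := by have := h.one_lt_m; omega
  obtain ⟨s, hs1', hs2⟩ := GalEx.exists_sigma_field (F := F) p h.eps h.odd_m h.card_F hm0
  have hpm : ¬ p ∣ m := by
    intro hpm
    have h1 : (p : ℤ) ∣ (Fintype.card F : ℤ) := by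
      rw [hn]
      exact_mod_cast dvd_pow_self p n.ne_zero
    have h2 : (p : ℤ) ∣ 4 * (m : ℤ) := Dvd.dvd.mul_left (by exact_mod_cast hpm) 4
    have h3 : (p : ℤ) ∣ ε := by
      have := dvd_sub h1 h2
      rwa [h.card_F, add_sub_cancel_left] at this
    have h4 : (p : ℤ) ∣ 1 := by
      rcases h.eps with h5 | h5 <;> rw [h5] at h3
      · exact h3
      · exact (dvd_neg.1 h3)
    have h5 : p ∣ 1 := by exact_mod_cast h4
    exact hp.one_lt.ne' (Nat.dvd_one.1 h5)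
  have hs1 : ∀ ζ : ℂ, ζ ^ m = 1 → s ζ = ζ := fun ζ hζ => hs1' ζ m dvd_rfl hpm hζ
  let one : IrrCharacter G := ⟨fun _ => 1, Blocks.Basic.isIrrCharacter_one⟩
  have hone : (one : G → ℂ) = fun _ => 1 := rfl
  refine ⟨τ, one, s, hτ, CharTI.numBase h hM hτ h1 h2 h3 hgal (one := one) rfl s hs2, ?_⟩
  intro ℓ hℓ hd
  obtain ⟨θ, hθ, hθ1⟩ := CharTI.exists_hom (A := Y)
    (fun a b => Subtype.ext ((SectionVal.hyp_LBlock h).Y_comm a a.2 b b.2)) hℓ
    (by rw [h.Y_card]; exact hd)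
  obtain ⟨ψ, -, hψ⟩ := CharTI.exists_hom (A := V)
    (fun a b => Subtype.ext (DelLoc.comm_of_exp h.V_exp a.2 b.2)) Nat.prime_two
    (by rw [h.V_card]; norm_num)
  have hT := TIInd.hyp_of_good h
  exact ⟨TIInd.vec V Y 1 θ, TIInd.vec V Y ψ θ, CharTI.numTI h hM hτ hy1 hℓ hd one s hs1 θ hθ hθ1 ψ hψ
    (TIInd.vec V Y 1 θ) (TIInd.vec V Y ψ θ) (hT.a_coe θ) (hT.b_coe ψ θ) (hT.a_one θ hθ1 hone)
      (hT.b_one ψ hψ θ hone) (hT.aa hℓ hd θ hθ hθ1) (hT.bb hℓ hd θ hθ hθ1 ψ hψ)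
      (hT.ab hℓ hd θ hθ hθ1 ψ hψ) (hT.vec_deg 1 θ) (hT.vec_deg ψ θ) (hT.vec_val h.ord_t 1 θ)
      (hT.vec_val h.ord_t ψ θ)⟩

/-- **eight odd characters, fixed by the automorphisms of odd order modulo the inner ones** -/
theorem f0_good (h : Good F t L V Y m ε) {U : Subgroup G} (hU : IsPGroup 2 U)
    (hC : IsPGroup 2 (centralizer (U : Set G))) {α : MulAut G} {n : ℕ} (hn : Odd n) {x : G}
    (hα : α ^ n = MulAut.conj x) : f0 α = 8 := by
  classical
  have : Finite (IrrCharacter G) := finite_irr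
  have := Fintype.ofFinite (IrrCharacter G)
  obtain ⟨M, hM⟩ := Blocks.ExistsModular.exists_isPModular Nat.prime_two
  obtain ⟨τ, one, s, hτ, hb, ht⟩ := exists_num' h hM
  obtain ⟨hQ8, hQ5, hm⟩ := CharMain.Q_arith h
  obtain ⟨e, δ, h8⟩ | ⟨e, δ, h7⟩ := pattern hb
  swap
  · exact (not_seven hQ8 hQ5 hm hb ht h7).elim
  have h1 : ∀ j, OI G (e j : G → ℂ) := fun j => ⟨(e j).2, by
    have h2 : Odd ((charDegree (e j : G → ℂ) : ℕ) : ℤ) := odd_of_eight hQ8 hb h8 _ ((h8.mem _).2 ⟨j, rfl⟩)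
    exact_mod_cast h2⟩
  have h2 : ∀ (χ : G → ℂ) (hχ : OI G χ), ∃ j, e j = ⟨χ, hχ.1⟩ := fun χ hχ => (h8.mem _).1 (by
    by_contra hcon
    push Not at hcon
    have h1 := val_section hM (CharFinal.setup h) hτ _ (mem_principal hM hU hC hχ) 1 (by rw [orderOf_one]; norm_num)
    rw [Subgroup.coe_one, mul_one, Finset.sum_eq_zero (fun i _ => by rw [hcon i]; simp)] at h1
    exact H404.VanishBlock.ne_zero_of_principal hM (mem_principal hM hU hC hχ) (index_centralizer h) h1)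
  let π : IrrCharacter G → IrrCharacter G := fun χ => ⟨fun y => χ.1 (α y), isIrr_comp' α.toMonoidHom α.surjective χ.2⟩
  have h3 : ∀ (k : ℕ) (χ : IrrCharacter G) (y : G), (π^[k] χ).1 y = χ.1 ((α ^ k) y) := fun k => by
    induction k with
    | zero => exact fun _ _ => rfl
    | succ k ih => exact fun χ y => by rw [Function.iterate_succ_apply, ih, pow_succ']; rfl
  have h4 : ∀ j, π (e j) = e j := by
    refine fix_of_eight hQ8 hQ5 hb h8 (fun a b hab => Subtype.ext (funext fun y => ?_))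
      (fun j => h2 _ (oi_equiv α (h1 j))) (fun χ => ?_) (fun _ => rfl) hn fun χ => Subtype.ext (funext fun y => ?_)
    · obtain ⟨y, rfl⟩ := α.surjective y
      exact congrFun (congrArg Subtype.val hab) y
    · obtain ⟨c, hc⟩ := isConj_iff.1 (h.conj t (α t) h.ord_t (by rw [MulEquiv.orderOf_eq, h.ord_t]))
      change ⌊(χ.1 (α t)).re⌋ = ⌊(χ.1 t).re⌋
      rw [← hc, isIrr_isClassFunction χ.2]
    · rw [h3, hα, MulAut.conj_apply, isIrr_isClassFunction χ.2]
  rw [f0_eq_of_all fun χ hχ y => ?_]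
  · rw [← Nat.card_fin 8]
    refine (Nat.card_eq_of_bijective (fun j => (⟨_, h1 j⟩ : {χ : G → ℂ // OI G χ}))
      ⟨fun a b hab => h8.inj (Subtype.ext (congrArg Subtype.val hab :)), fun χ => ?_⟩).symm
    obtain ⟨j, hj⟩ := h2 _ χ.2
    exact ⟨j, Subtype.ext (congrArg Subtype.val hj :)⟩
  · obtain ⟨j, hj⟩ := h2 _ hχ
    have h5 := h4 j
    rw [hj] at h5
    exact congrFun (congrArg Subtype.val h5) y

end good

section loc

variable {G : Type} [Group G] [Finite G]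

omit [Finite G] in
theorem two_of_le {Q : Subgroup G} (hQ : IsPGroup 2 Q) (hC : centralizer (Q : Set G) ≤ Q) :
    IsPGroup 2 (centralizer (Q : Set G)) := hQ.to_le hC

/-- a normal elementary abelian Sylow subgroup of order eight -/
theorem k0_eight (P : Sylow 2 G) [(P : Subgroup G).Normal] (h8 : Nat.card (P : Subgroup G) = 8)
    (h2 : ∀ x ∈ (P : Subgroup G), x * x = 1) (hC : centralizer ((P : Subgroup G) : Set G) ≤ P) : k0 G = 8 := by
  have := two_prime
  obtain ⟨M, hM⟩ := Blocks.ExistsModular.exists_isPModular Nat.prime_two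
  have h1 : ∀ χ : IrrCharacter G, ¬ 2 ∣ charDegree (χ : G → ℂ) := fun χ e => P.not_dvd_index
    (e.trans (H142.McKayCount.charDegree_dvd_index _ (H608.KKL.comm_of_inv h2) χ))
  rw [k0_eq_card hM P.isPGroup' (two_of_le P.isPGroup' hC) (p := fun _ => True) fun χ _ =>
    (true_iff _).mpr (Nat.odd_iff.2 (Nat.two_dvd_ne_zero.1 (h1 χ)))]
  simp only [and_true]
  refine (H608.KKL.C1 (fun M _ B _ _ _ _ χ _ => ?_) hM isPBlock_principal (isDefect_principal hM P) ⟨h8, h2⟩).1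
  rw [blockHeight, Nat.factorization_eq_zero_of_not_dvd (h1 χ), Nat.zero_sub]

omit [Finite G] in
theorem mem_of_pow {H : Subgroup G} {a : G} (ha : a ∈ normalizer (H : Set G)) {n : ℕ} (hn : n.Coprime H.index)
    (h : a ^ n ∈ H) : a ∈ H := by
  have h1 : a ^ H.relIndex (normalizer (H : Set G)) ∈ H :=
    (H.subgroupOf (normalizer (H : Set G))).pow_index_mem ⟨a, ha⟩
  have h2 : n.Coprime (H.relIndex (normalizer (H : Set G))) :=
    hn.coprime_dvd_right (relIndex_dvd_index_of_le le_normalizer)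
  generalize H.relIndex (normalizer (H : Set G)) = k at h1 h2
  have h3 : a ^ (n * Nat.gcdA n k + k * Nat.gcdB n k) ∈ H := by
    rw [zpow_add, zpow_mul, zpow_mul, zpow_natCast, zpow_natCast]
    exact mul_mem (zpow_mem h _) (zpow_mem h1 _)
  rwa [← Nat.gcd_eq_gcd_ab, h2, Nat.cast_one, zpow_one] at h3

/-- the automorphisms act on the normaliser as inner ones -/
theorem inner_on_norm {Q : Subgroup G} (h8 : Nat.card Q = 8) (h2 : ∀ x ∈ Q, x * x = 1)
    (hC : centralizer (Q : Set G) = Q) (hN : Nat.card (normalizer (Q : Set G)) = 168) {n : ℕ} (hn : Odd n)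
    (hO : ∀ α : MulAut G, ∃ x, α ^ n = MulAut.conj x) {α : MulAut G} (hα : ∀ x, α x ∈ Q ↔ x ∈ Q) :
    ∃ w ∈ normalizer (Q : Set G), ∀ z ∈ normalizer (Q : Set G), α z = w * z * w⁻¹ := by
  have : Finite (MulAut Q) := Finite.of_injective (fun e : MulAut Q => (e : Q → Q)) DFunLike.coe_injective
  have hx : ∀ β : MulAut G, (∀ x, β x ∈ Q ↔ x ∈ Q) → ∃ x ∈ normalizer (Q : Set G), β ^ n = MulAut.conj x :=
    fun β hβ => by
      obtain ⟨x, hx⟩ := hO β
      exact ⟨x, mem_norm_of (β := 1) (fun _ => Iff.rfl) (by rw [mul_one, ← hx]; exact stab_pow hβ n), hx⟩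
  have h1 : Q.normalizerMonoidHom.range.index = 2 ^ 3 := by
    have h3 := Q.normalizerMonoidHom.range.card_mul_index
    have h4 := Q.normalizerMonoidHom.ker.card_mul_index
    rw [index_ker, normalizerMonoidHom_ker, hC, Nat.card_congr (subgroupOfEquivOfLe le_normalizer).toEquiv, h8,
      hN] at h4
    rw [SmallSimple.S1000.FrameAut.card_mulAut (fun x : Q => Subtype.ext (h2 x x.2)) h8,
      show Nat.card Q.normalizerMonoidHom.range = 21 by omega] at h3
    omega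
  obtain ⟨y, hy⟩ : res Q α hα ∈ Q.normalizerMonoidHom.range := by
    refine mem_of_pow (n := n) (mem_normalizer_fintype ?_) (h1 ▸ (Nat.coprime_two_right.2 hn).pow_right 3) ?_
    · rintro _ ⟨y, rfl⟩
      refine ⟨⟨α y, (stab_norm hα _).2 y.2⟩, MulEquiv.ext fun q => Subtype.ext ?_⟩
      change α y * q * (α y)⁻¹ = α (y * α⁻¹ q * (y : G)⁻¹)
      simp
    · obtain ⟨x, h3, h4⟩ := hx α hα
      refine ⟨⟨x, h3⟩, MulEquiv.ext fun q => Subtype.ext ?_⟩
      rw [res_pow, h4]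
      rfl
  let β : MulAut G := MulAut.conj (y : G)⁻¹ * α
  have h3 : ∀ q ∈ Q, β q = q := fun q hq => by
    have h4 : (y : G) * q * (y : G)⁻¹ = α q := congrArg Subtype.val (MulEquiv.congr_fun hy ⟨q, hq⟩)
    change (y : G)⁻¹ * α q * (y : G)⁻¹⁻¹ = q
    rw [← h4]
    group
  have h4 : ∀ z ∈ normalizer (Q : Set G), β (β z) = z := fun z hz => by
    have h5 : z⁻¹ * β z ∈ Q := by
      rw [← hC, mem_centralizer_iff]
      intro q hq
      have h6 := h3 _ ((mem_normalizer_iff.1 hz q).1 hq)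
      rw [map_mul, map_mul, map_inv, h3 q hq] at h6
      calc q * (z⁻¹ * β z) = z⁻¹ * (z * q * z⁻¹) * β z := by group
        _ = z⁻¹ * β z * q := by rw [← h6]; group
    calc β (β z) = β (z * (z⁻¹ * β z)) := by rw [mul_inv_cancel_left]
      _ = z * (z⁻¹ * β z * (z⁻¹ * β z)) := by rw [map_mul, h3 _ h5]; group
      _ = z := by rw [h2 _ h5, mul_one]
  obtain ⟨x, h5, h6⟩ := hx β (stab_of_le fun q hq => by rwa [h3 q hq])
  obtain ⟨k, rfl⟩ := hn
  refine ⟨y * x, mul_mem y.2 h5, fun z hz => ?_⟩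
  have h7 : ∀ j : ℕ, (β ^ (2 * j)) z = z := fun j => by
    induction j with
    | zero => rfl
    | succ j ih => rw [mul_add, mul_one, add_comm, pow_add, MulAut.mul_apply, ih, pow_two, MulAut.mul_apply, h4 z hz]
  have h9 : (y : G)⁻¹ * α z * (y : G)⁻¹⁻¹ = x * z * x⁻¹ := by
    rw [← MulAut.conj_apply x, ← h6, pow_succ', MulAut.mul_apply, h7]
    rfl
  calc α z = y * ((y : G)⁻¹ * α z * (y : G)⁻¹⁻¹) * (y : G)⁻¹ := by group
    _ = _ := by rw [h9]; group

end loc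

/-- **the Ree groups** -/
theorem sm_ree {K : Type} [Field K] [Fintype K] {m : ℕ} (hm : 1 ≤ m) (hK : Fintype.card K = 3 ^ (2 * m + 1))
    [Finite (Lie.twistedG2 K (3 ^ m))] : Sm (Lie.twistedG2 K (3 ^ m)) := by
  have := two_prime
  obtain ⟨hs, hc⟩ := S1073.result hm hK
  have hZ : center (Lie.twistedG2 K (3 ^ m)) = ⊥ :=
    (inferInstance : (center (Lie.twistedG2 K (3 ^ m))).Normal).eq_bot_or_eq_top.resolve_right fun e =>
      hc ⟨⟨fun a b => mem_center_iff.1 (e ▸ mem_top b) a⟩⟩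
  obtain ⟨a, h1, h2, h3⟩ := S1157.exists_involution hK
  let Q : Sylow 2 (Lie.twistedG2 K (3 ^ m)) := default
  obtain ⟨h4, h5⟩ := (S1152.result hK a h1 h2 h3).2 Q
  obtain ⟨h6, h7⟩ := S1157.result hm hK Q
  have hO : ∀ α : MulAut (Lie.twistedG2 K (3 ^ m)), ∃ x, α ^ (2 * m + 1) = MulAut.conj x := fun α => by
    have h8 : ((α ^ (2 * m + 1) : MulAut (Lie.twistedG2 K (3 ^ m))) : Out (Lie.twistedG2 K (3 ^ m))) = 1 := by
      rw [QuotientGroup.mk_pow, ← S2127.result hm hK, pow_card_eq_one']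
    exact ((QuotientGroup.eq_one_iff _).1 h8).imp fun _ => Eq.symm
  obtain ⟨F, _, _, t, L, V, Y, n, ε, hg⟩ := exists_good (S := Lie.twistedG2 K (3 ^ m)) ⟨K, _, _, m, hm, hK, ⟨.refl _⟩⟩
  refine sm_of_cyc hZ (H389.RSq.ReeExt.isCyclic_out hm hK) Q fun α hα => ?_
  obtain ⟨x, hx⟩ := hO α
  obtain ⟨w, h8, h9⟩ := inner_on_norm h4 h5 h6 h7 (odd_two_mul_add_one m) hO hα
  rw [f0_good hg Q.isPGroup' (two_of_le Q.isPGroup' h6.le) (odd_two_mul_add_one m) hx,
    fN_eq_f0 (β := MulAut.conj ⟨w, h8⟩) fun y => (h9 y y.2).symm, f0_conj]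
  have : (Q.subtype (le_normalizer (H := Q.toSubgroup))).toSubgroup.Normal := normal_in_normalizer (H := Q.toSubgroup)
  refine (k0_eight (Q.subtype le_normalizer) ?_ (fun x hx => Subtype.ext (h5 _ hx)) fun x hx => ?_).symm
  · rw [Sylow.coe_subtype, Nat.card_congr (subgroupOfEquivOfLe le_normalizer).toEquiv, h4]
  · refine h6.le (mem_centralizer_iff.2 fun q hq => ?_)
    exact congrArg Subtype.val (mem_centralizer_iff.1 hx ⟨q, le_normalizer hq⟩ hq)

/-- **the row of the Ree groups** -/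
theorem row_ree (h : Steps) : Row fun S _ => Lie.IsoRee S := by
  intro X _ _ c Γ s
  obtain ⟨K, _, _, m, hm, hK, ⟨e⟩⟩ := c.fam
  have : Finite (Lie.twistedG2 K (3 ^ m)) := Finite.of_equiv _ e.toEquiv
  exact S.gd_of_two h.sm c s ⟨e⟩ (k := 0) (S2113.result hm hK) fun _ => sm_ree hm hK

end Cfsg.Agent.MK.L
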