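import Cfsg.Agent.MK.T.B
import Cfsg.Agent.GH.L2AutSyl
import Cfsg.Agent.SignalizersComponents.DihedralIso
import Cfsg.Agent.Blocks.ExistsModular
import Cfsg.Agent.H684.Principal
import Cfsg.Agent.H195.HT.Top
import Cfsg.Agent.S4652
import Cfsg.Agent.S4528
import Cfsg.Agent.S0948

/-!
# MK-L: general tools for the rows `L₂(q)` and Ree (helper81)

* `sm_of_cyc`, `sm_of_four` : `Sm` for a cyclic outer automorphism group;
* `k0_eq_block` : the odd characters are the characters of height zero of the principal block;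
* `k0_dih`, `k0_klein` : dihedral Sylow subgroups.
-/

set_option autoImplicit false

namespace Cfsg.Agent.MK.L

open Cfsg Subgroup Cfsg.Agent.ODD.Red Cfsg.Agent.Characters Cfsg.Agent.Characters.Core Cfsg.Agent.MK.T

section perm

variable {G : Type} [Group G]

/-- the permutation of the odd characters -/
def pm (α : MulAut G) : Equiv.Perm {χ : G → ℂ // OI G χ} where
  toFun χ := ⟨fun x => χ.1 (α x), oi_equiv α χ.2⟩
  invFun χ := ⟨fun x => χ.1 (α⁻¹ x), oi_equiv (α⁻¹ : MulAut G) χ.2⟩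
  left_inv χ := Subtype.ext (funext fun x => by simp)
  right_inv χ := Subtype.ext (funext fun x => by simp)

theorem pm_pow (α : MulAut G) : ∀ k : ℕ, pm (α ^ k) = pm α ^ k
  | 0 => rfl
  | k + 1 => by
    rw [pow_succ' (pm α), ← pm_pow α k, pow_succ]
    rfl

theorem f0_eq (α : MulAut G) : f0 α = Nat.card {b // pm α b = b} :=
  Nat.card_congr
    { toFun := fun χ => ⟨⟨χ.1, χ.2.1⟩, Subtype.ext (funext χ.2.2)⟩
      invFun := fun b => ⟨b.1.1, b.1.2, congrFun (congrArg Subtype.val b.2)⟩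
      left_inv := fun _ => rfl
      right_inv := fun _ => rfl }

theorem oi_one : OI G fun _ => 1 := ⟨isIrr_one, by rw [charDegree_of (n := 1) (by simp)]; exact odd_one⟩

theorem fin_four : ∀ s : Equiv.Perm (Fin 4), (∃ b, s b = b) →
    (s * s = 1 ∧ (s = 1 ∨ Fintype.card {b // s b = b} = 2)) ∨
      (s * s * s = 1 ∧ Fintype.card {b // s b = b} = 1 ∧ Fintype.card {b // (s * s) b = b} = 1) := by
  decide +kernel

theorem fin_four_pow (s : Equiv.Perm (Fin 4)) (h : ∃ b, s b = b) {m : ℕ} (hm : Nat.card {b // (s ^ m) b = b} = 2)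
    (k : ℕ) : Nat.card {b // (s ^ k) b = b} = if Even k then 4 else 2 := by
  have h4 : Nat.card {b // (1 : Equiv.Perm (Fin 4)) b = b} = 4 := by
    rw [Nat.card_eq_fintype_card]
    rfl
  rcases fin_four s h with ⟨h1, h2 | h2⟩ | ⟨h1, h2, h3⟩
  · rw [h2, one_pow, h4] at hm
    omega
  · rw [← pow_two] at h1
    rw [pow_eq_pow_mod k h1]
    rcases Nat.even_or_odd k with h5 | h5
    · rw [if_pos h5, Nat.even_iff.1 h5, pow_zero, h4]
    · rw [if_neg (Nat.not_even_iff_odd.2 h5), Nat.odd_iff.1 h5, pow_one, Nat.card_eq_fintype_card, h2]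
  · exfalso
    rw [← pow_three'] at h1
    rw [pow_eq_pow_mod m h1] at hm
    have h5 : m % 3 = 0 ∨ m % 3 = 1 ∨ m % 3 = 2 := by omega
    rcases h5 with h5 | h5 | h5 <;> rw [h5] at hm
    · rw [pow_zero, h4] at hm
      omega
    · rw [pow_one, Nat.card_eq_fintype_card, h2] at hm
      omega
    · rw [pow_two, Nat.card_eq_fintype_card, h3] at hm
      omega

theorem four_pow {B : Type} (hB : Nat.card B = 4) (s : Equiv.Perm B) (h : ∃ b, s b = b) {m : ℕ}
    (hm : Nat.card {b // (s ^ m) b = b} = 2) (k : ℕ) : Nat.card {b // (s ^ k) b = b} = if Even k then 4 else 2 := by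
  have : Finite B := Nat.finite_of_card_ne_zero (by omega)
  let e : B ≃ Fin 4 := Finite.equivFinOfCardEq hB
  have h1 : ∀ j : ℕ, Nat.card {b // (s ^ j) b = b} = Nat.card {b // (e.permCongrHom s ^ j) b = b} := fun j => by
    rw [← map_pow]
    refine Nat.card_congr (e.subtypeEquiv fun b => ?_)
    change _ ↔ e ((s ^ j) (e.symm (e b))) = e b
    rw [e.symm_apply_apply, e.apply_eq_iff_eq]
  rw [h1] at hm ⊢
  obtain ⟨b, hb⟩ := h
  refine fin_four_pow _ ⟨e b, ?_⟩ hm k
  change e (s (e.symm (e b))) = e b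
  rw [e.symm_apply_apply, hb]

theorem f0_pow (h4 : k0 G = 4) (γ : MulAut G) {m : ℕ} (hm : f0 (γ ^ m) = 2) (k : ℕ) :
    f0 (γ ^ k) = if Even k then 4 else 2 := by
  rw [f0_eq, pm_pow] at hm ⊢
  exact four_pow h4 _ ⟨⟨_, oi_one⟩, rfl⟩ hm k

end perm

section sm

variable {X : Type} [Group X] [Finite X]

theorem exists_gen (hc : IsCyclic (Out X)) (Q : Sylow 2 X) :
    ∃ γ : MulAut X, (∀ x, γ x ∈ (Q : Subgroup X) ↔ x ∈ (Q : Subgroup X)) ∧
      ∀ α : MulAut X, ∃ (k : ℕ) (x : X), α = MulAut.conj x * γ ^ k := by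
  have := two_prime
  have : Finite (MulAut X) := Finite.of_injective (fun e : MulAut X => (e : X → X)) DFunLike.coe_injective
  obtain ⟨g, hg⟩ := hc.exists_monoid_generator
  obtain ⟨β, rfl⟩ := QuotientGroup.mk_surjective g
  obtain ⟨y, hy⟩ := MulAction.exists_smul_eq X (Q.mapSurjective (f := β.toMonoidHom) β.surjective) Q
  refine ⟨MulAut.conj y * β, stab_of_le fun x hx => ?_, fun α => ?_⟩
  · exact GH.L2Aut.conj_mem_syl hy (mem_map_of_mem β.toMonoidHom hx)
  · obtain ⟨k, hk⟩ := hg (α : Out X)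
    have h1 : ((MulAut.conj y * β : MulAut X) : Out X) = β := by
      rw [QuotientGroup.mk_mul, (QuotientGroup.eq_one_iff (N := Inn X) (MulAut.conj y)).2 ⟨y, rfl⟩, one_mul]
    have h2 : (((MulAut.conj y * β) ^ k * α⁻¹ : MulAut X) : Out X) = 1 := by
      rw [QuotientGroup.mk_mul, QuotientGroup.mk_pow, h1, QuotientGroup.mk_inv, ← hk, mul_inv_cancel]
    obtain ⟨x, hx⟩ := (QuotientGroup.eq_one_iff _).1 h2
    exact ⟨k, x⁻¹, by rw [map_inv, hx]; group⟩

theorem sm_of_cyc (hZ : center X = ⊥) (hc : IsCyclic (Out X)) (Q : Sylow 2 X)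
    (h : ∀ α : MulAut X, (∀ x, α x ∈ (Q : Subgroup X) ↔ x ∈ (Q : Subgroup X)) →
      f0 α = fN (normalizer ((Q : Subgroup X) : Set X)) α) : Sm X := by
  obtain ⟨γ, -, hγ⟩ := exists_gen hc Q
  exact ⟨⟨γ, fun α _ => hγ α⟩, Q, fun l _ α _ hα => fA_eq_fB hZ (h α hα) l⟩

omit [Finite X] in
theorem stab_pow {Q : Subgroup X} {γ : MulAut X} (h : ∀ x, γ x ∈ Q ↔ x ∈ Q) : ∀ (k : ℕ) (x : X), (γ ^ k) x ∈ Q ↔ x ∈ Q
  | 0, _ => Iff.rfl
  | k + 1, x => by rw [pow_succ', MulAut.mul_apply, h, stab_pow h k]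

omit [Finite X] in
theorem res_pow (K : Subgroup X) (γ : MulAut X) (h : ∀ x, γ x ∈ K ↔ x ∈ K) :
    ∀ (k : ℕ) (y : K), ((res K γ h ^ k) y : X) = (γ ^ k) y
  | 0, _ => rfl
  | k + 1, y => by rw [pow_succ', pow_succ', MulAut.mul_apply, MulAut.mul_apply, res_coe, res_pow K γ h k]

omit [Finite X] in
theorem mem_norm_of {Q : Subgroup X} {β : MulAut X} {x : X} (h : ∀ y, β y ∈ Q ↔ y ∈ Q)
    (h' : ∀ y, (MulAut.conj x * β) y ∈ Q ↔ y ∈ Q) : x ∈ normalizer (Q : Set X) := by
  rw [mem_normalizer_iff]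
  intro y
  obtain ⟨y, rfl⟩ := β.surjective y
  exact (h y).trans (h' y).symm

/-- **four odd characters on both sides, two of them are interchanged** -/
theorem sm_of_four (hZ : center X = ⊥) (hc : IsCyclic (Out X)) (Q : Sylow 2 X) (h1 : k0 X = 4)
    (h2 : k0 (normalizer ((Q : Subgroup X) : Set X)) = 4) {δ : MulAut X}
    (hδ : ∀ x, δ x ∈ (Q : Subgroup X) ↔ x ∈ (Q : Subgroup X)) (h3 : f0 δ = 2)
    (h4 : fN (normalizer ((Q : Subgroup X) : Set X)) δ = 2) : Sm X := by
  obtain ⟨γ, hQ, hγ⟩ := exists_gen hc Q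
  have key : ∀ α : MulAut X, (∀ x, α x ∈ (Q : Subgroup X) ↔ x ∈ (Q : Subgroup X)) → ∃ k : ℕ, f0 α = f0 (γ ^ k) ∧
      fN (normalizer ((Q : Subgroup X) : Set X)) α = f0 (res _ γ (stab_norm hQ) ^ k) := fun α hα => by
    obtain ⟨k, x, rfl⟩ := hγ α
    exact ⟨k, f0_conj_mul _ _, by
      rw [fN_conj_mul (mem_norm_of (stab_pow hQ k) hα), fN_eq_f0 (res_pow _ γ (stab_norm hQ) k)]⟩
  refine sm_of_cyc hZ hc Q fun α hα => ?_
  obtain ⟨m, h5, h6⟩ := key δ hδ
  obtain ⟨k, h7, h8⟩ := key α hα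
  rw [h7, h8, f0_pow h1 γ (h5 ▸ h3), f0_pow h2 _ (h6 ▸ h4)]

end sm

section block

variable {G : Type} [Group G] [Finite G] {M : Ideal AlgInt}

theorem mem_principal (hM : IsPModular 2 M) {U : Subgroup G} (hU : IsPGroup 2 U)
    (hC : IsPGroup 2 (centralizer (U : Set G))) {χ : G → ℂ} (h : OI G χ) :
    (⟨χ, h.1⟩ : IrrCharacter G) ∈ principalBlock M G := by
  have := two_prime
  exact H684.Principal.mem_of_not_dvd hM hU hC _ (Odd.not_two_dvd_nat h.2)

theorem k0_eq_card (hM : IsPModular 2 M) {U : Subgroup G} (hU : IsPGroup 2 U)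
    (hC : IsPGroup 2 (centralizer (U : Set G))) {p : IrrCharacter G → Prop}
    (h : ∀ χ ∈ principalBlock M G, p χ ↔ Odd (charDegree (χ : G → ℂ))) :
    k0 G = Nat.card {χ : IrrCharacter G // χ ∈ principalBlock M G ∧ p χ} :=
  Nat.card_congr
    { toFun := fun χ => ⟨⟨χ.1, χ.2.1⟩, mem_principal hM hU hC χ.2, (h _ (mem_principal hM hU hC χ.2)).2 χ.2.2⟩
      invFun := fun χ => ⟨χ.1.1, χ.1.2, (h _ χ.2.1).1 χ.2.2⟩
      left_inv := fun _ => rfl
      right_inv := fun _ => rfl }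

theorem k0_eq_block (hM : IsPModular 2 M) {U : Subgroup G} (hU : IsPGroup 2 U)
    (hC : IsPGroup 2 (centralizer (U : Set G))) : k0 G = Nat.card {χ : IrrCharacter G // χ ∈ principalBlock M G ∧
      blockHeight 2 (principalBlock M G) (χ : G → ℂ) = 0} :=
  k0_eq_card hM hU hC fun χ _ => by
    rw [H195.HT.blockHeight_eq_vd 2 hM, H316.HT.vd, Nat.factorization_eq_zero_iff, ← Nat.not_even_iff_odd,
      even_iff_two_dvd]
    have h1 := Blocks.Basic.charDegree_pos χ.2
    exact ⟨fun h => h.elim (fun h => absurd Nat.prime_two h) fun h => h.resolve_right h1.ne', fun h => .inr (.inl h)⟩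

omit [Finite G] in
theorem isPBlock_principal : IsPBlock M (principalBlock M G) := ⟨⟨_, isIrr_one⟩, rfl⟩

theorem isDefect_principal (hM : IsPModular 2 M) (P : Sylow 2 G) :
    IsDefectGroup 2 M (principalBlock M G) (P : Subgroup G) := by
  have := two_prime
  have := Fintype.ofFinite G
  exact (S4652.result 2 M hM _).2 ⟨P, rfl⟩

open GH.L2Aut in
/-- **dihedral Sylow subgroups of order at least eight** -/
theorem k0_dih (P : Sylow 2 G) {d r : G} (h : Dih (P : Subgroup G) d r) (hd : d * d ≠ 1) {U : Subgroup G}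
    (hU : IsPGroup 2 U) (hC : IsPGroup 2 (centralizer (U : Set G))) : k0 G = 4 := by
  obtain ⟨M, hM⟩ := Blocks.ExistsModular.exists_isPModular Nat.prime_two
  obtain ⟨n, hn, -⟩ := h.exists_z P.isPGroup'
  have h1 : (P : Subgroup G) = zpowers r ⊔ zpowers d := by
    refine le_antisymm (fun x hx => ?_) (sup_le (zpowers_le.2 h.r_mem) (zpowers_le.2 h.d_mem))
    rcases h.cov x hx with h2 | ⟨k, rfl⟩
    · exact mem_sup_right h2
    · exact mul_mem (mem_sup_right (zpow_mem (mem_zpowers d) k)) (mem_sup_left (mem_zpowers r))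
  have h2 : n ≠ 0 := by
    rintro rfl
    exact hd (by rw [← pow_two, ← pow_orderOf_eq_one d, hn]; rfl)
  have h3 := SignalizersComponents.DihedralIso.nonempty_mulEquiv_of_notMem r d h.rr h.rd h.r_not
  rw [← h1, hn] at h3
  rw [k0_eq_block hM hU hC]
  exact (S4528.result M hM _ isPBlock_principal _ (isDefect_principal hM P) (n + 2) (by omega) h3).2.2.2.1

/-- **Klein four Sylow subgroups, one class of involutions** -/
theorem k0_klein (P : Sylow 2 G) (h : IsKleinFour (P : Subgroup G))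
    (hc : ∀ s t : G, orderOf s = 2 → orderOf t = 2 → IsConj s t) {U : Subgroup G}
    (hU : IsPGroup 2 U) (hC : IsPGroup 2 (centralizer (U : Set G))) : k0 G = 4 := by
  classical
  obtain ⟨M, hM⟩ := Blocks.ExistsModular.exists_isPModular Nat.prime_two
  obtain ⟨a, b, c, ε, hε, a1, b1, ab, ac, bc, hB, hz, ha, hb, hc', -⟩ := S0948.result M hM P h hc
  have := two_prime
  obtain ⟨z, hz2⟩ := exists_prime_orderOf_dvd_card' (G := (P : Subgroup G)) 2 (by rw [h.card_four]; norm_num)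
  have c1 : (c : G → ℂ) ≠ fun _ => 1 := fun e => by
    have h1 := (hz z (by rw [orderOf_coe, hz2])).2.2
    rw [e] at h1
    norm_num at h1
  let o : IrrCharacter G := ⟨fun _ => 1, isIrr_one⟩
  have h1 : principalBlock M G = (({o, a, b, c} : Finset (IrrCharacter G)) : Set (IrrCharacter G)) := by
    rw [hB]
    ext χ
    simp only [Set.mem_ofPred_eq, Finset.coe_insert, Finset.coe_singleton, Set.mem_insert_iff, Set.mem_singleton_iff]
    exact or_congr_left ⟨fun e => Subtype.ext e, fun e => congrArg Subtype.val e⟩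
  rw [k0_eq_card hM hU hC (p := fun _ => True) fun χ hχ => ?_]
  · simp only [and_true]
    rw [h1]
    change Nat.card (({o, a, b, c} : Finset (IrrCharacter G)) : Set (IrrCharacter G)) = 4
    rw [Nat.card_coe_set_eq, Set.ncard_coe_finset, Finset.card_insert_of_notMem, Finset.card_insert_of_notMem,
      Finset.card_pair bc]
    · simp only [Finset.mem_insert, Finset.mem_singleton, not_or]
      exact ⟨ab, ac⟩
    · simp only [Finset.mem_insert, Finset.mem_singleton, not_or]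
      exact ⟨fun e => a1 (congrArg Subtype.val e).symm, fun e => b1 (congrArg Subtype.val e).symm,
        fun e => c1 (congrArg Subtype.val e).symm⟩
  · rw [true_iff, Nat.odd_iff]
    rw [hB] at hχ
    rcases hχ with e | rfl | rfl | rfl
    · rw [e, charDegree_of (n := 1) (by simp)]
    · omega
    · rcases hε with rfl | rfl <;> omega
    · omega

end block

end Cfsg.Agent.MK.L
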